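import Groth.Agent.H3Cyc.ProdDiv.Global
import Groth.Agent.H3CAlg.ProdPt
import Groth.Agent.H3Cyc.KDet
import Groth.Agent.H22Alg.CycBasic
import Groth.Agent.H22Alg.CycDiv
import Groth.Agent.S1905
import Mathlib

/-!
# Codimension one cycles on a product
-/

set_option autoImplicit false
set_option linter.style.haveILetI false
set_option backward.isDefEq.respectTransparency.types false

universe u

open AlgebraicGeometry CategoryTheory CategoryTheory.Limits TopologicalSpace
open Groth.Agent.H3CAlg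

namespace Groth.Agent.H3Cyc.ProdDiv

section proj

variable {P X : Scheme.{u}} (p : P ⟶ X) [GeometricallyIntegral p] [LocallyOfFiniteType p] {r : ℕ}
  (hr : Cyc.HasRelDim p r) {δP : P → ℤ} {δX : X → ℤ} (hδ : Cyc.DeltaCompat p δP δX)

include hr hδ

theorem delta_sig (a : X) : δP (ProdPt.sig p a) = δX a + r := by
  have h := H22Alg.CycBasic.delta_eq_of_maximal p hr hδ (ProdPt.sig p a) fun x' hx' hs =>
    (hs.antisymm (ProdPt.sig_specializes p (hx'.trans (ProdPt.apply_sig p a)))).eq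
  rwa [ProdPt.apply_sig] at h

theorem eq_sig (hP : Cyc.IsDimFun P δP) {z : P} (hz : δP z = δX (p z) + r) : z = ProdPt.sig p (p z) := by
  by_contra hne
  have h1 := (hP _ _ (ProdPt.sig_specializes p (z := z) rfl) (Ne.symm hne)).1
  rw [delta_sig p hr hδ] at h1
  omega

theorem pullFun_eq (hP : Cyc.IsDimFun P δP) (α : X → ℤ) (z : P) :
    Cyc.pullFun p δP δX r α z = if δP z = δX (p z) + r then α (p z) else 0 := by
  simp only [Cyc.pullFun]
  by_cases hz : δP z = δX (p z) + r
  · rw [if_pos hz, if_pos hz]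
    have hlen : ∀ w, w = ProdPt.sig p (p z) → Module.length (P.presheaf.stalk w) (P.presheaf.stalk w ⧸
        (IsLocalRing.maximalIdeal (X.presheaf.stalk (p w))).map (p.stalkMap w).hom) = 1 := by
      rintro w rfl; exact ProdPt.length_sig p _
    rw [hlen z (eq_sig p hr hδ hP hz)]
    simp
  · rw [if_neg hz, if_neg hz]

end proj

theorem imm_of_delta {P : Scheme.{u}} {δ : P → ℤ} (hP : Cyc.IsDimFun P δ) {ξ z : P} (hd : δ z + 1 = δ ξ) :
    Imm ξ z := by
  refine ⟨fun e => by rw [e] at hd; omega, fun w h1 h2 => ?_⟩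
  by_contra h
  rw [not_or] at h
  have e1 := (hP ξ w h1 (Ne.symm h.1)).1
  have e2 := (hP w z h2 h.2).1
  omega

theorem delta_of_imm {P : Scheme.{u}} {δ : P → ℤ} (hP : Cyc.IsDimFun P δ) {ξ z : P} (hgen : ξ ⤳ z)
    (h : Imm ξ z) : δ z + 1 = δ ξ :=
  ((hP ξ z hgen (Ne.symm h.ne)).2 h.min).symm

/-- The projections of a product and their dimension functions. -/
structure Proj2 {P X Y : Scheme.{u}} [IsIntegral P] (p : P ⟶ X) (q : P ⟶ Y) (δP : P → ℤ) (δX : X → ℤ) (δY : Y → ℤ)
    (r s : ℕ) : Prop where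
  hP : Cyc.IsSetup P δP
  hX : Cyc.IsSetup X δX
  hY : Cyc.IsSetup Y δY
  gp : GeometricallyIntegral p
  gq : GeometricallyIntegral q
  fp : Flat p
  fq : Flat q
  tp : LocallyOfFiniteType p
  tq : LocallyOfFiniteType q
  rp : Cyc.HasRelDim p r
  rq : Cyc.HasRelDim q s
  cp : Cyc.DeltaCompat p δP δX
  cq : Cyc.DeltaCompat q δP δY
  pre : ∀ x y, ∃ z, p z = x ∧ q z = y

namespace Proj2

variable {P X Y : Scheme.{u}} [IsIntegral P] [IsIntegral X] [IsIntegral Y] {p : P ⟶ X} {q : P ⟶ Y}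
  {δP : P → ℤ} {δX : X → ℤ} {δY : Y → ℤ} {r s : ℕ} (D : Proj2 p q δP δX δY r s)

include D

theorem symm : Proj2 q p δP δY δX s r :=
  ⟨D.hP, D.hY, D.hX, D.gq, D.gp, D.fq, D.fp, D.tq, D.tp, D.rq, D.rp, D.cq, D.cp,
    fun y x => (D.pre x y).imp fun _ h => ⟨h.2, h.1⟩⟩

omit [IsIntegral Y] in
theorem fst_gen : p (genericPoint P) = genericPoint X := by
  obtain ⟨z, hz⟩ : ∃ z, p z = genericPoint X := haveI := D.gp; ⟨_, ProdPt.apply_sig p _⟩
  exact ((hz ▸ (genericPoint_specializes z).map p.continuous).antisymm (genericPoint_specializes _)).eq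

omit [IsIntegral Y] in
theorem delta_gen : δP (genericPoint P) = δX (p (genericPoint P)) + r := by
  haveI := D.gp; haveI := D.tp
  exact H22Alg.CycBasic.delta_eq_of_maximal p D.rp D.cp _ fun x' _ h =>
    (h.antisymm (genericPoint_specializes x')).eq

omit [IsIntegral Y] in
theorem delta_lt {x : X} (hx : x ≠ p (genericPoint P)) : δX x < δX (p (genericPoint P)) := by
  rw [D.fst_gen] at hx ⊢
  exact (D.hX.2.2 _ x (genericPoint_specializes x) (Ne.symm hx)).1

theorem snd_sig (x : X) : q (haveI := D.gp; ProdPt.sig p x) = q (genericPoint P) := by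
  haveI := D.gp
  obtain ⟨w, hw1, hw2⟩ := D.pre x (genericPoint Y)
  have h := (ProdPt.sig_specializes p hw1).map q.continuous
  rw [hw2] at h
  rw [D.symm.fst_gen]
  exact (h.antisymm (genericPoint_specializes _)).eq

theorem sig_props {x : X} (hx : δX x + 1 = δX (p (genericPoint P))) :
    haveI := D.gp
    δP (ProdPt.sig p x) + 1 = δP (genericPoint P) ∧ δP (ProdPt.sig p x) = δX (p (ProdPt.sig p x)) + r := by
  haveI := D.gp; haveI := D.tp
  have h1 := delta_sig p D.rp D.cp x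
  have h2 := D.delta_gen
  rw [ProdPt.apply_sig]
  omega

/-- A divisorial point not over the generic point of the first factor. -/
theorem vert {z : P} (hz : δP z + 1 = δP (genericPoint P)) (hp : p z ≠ p (genericPoint P)) :
    δP z = δX (p z) + r ∧ δX (p z) + 1 = δX (p (genericPoint P)) ∧ q z = q (genericPoint P) := by
  haveI := D.gp; haveI := D.tp
  have h1 := H22Alg.CycBasic.delta_le_of_hasRelDim p D.rp D.cp z
  have h2 := D.delta_lt hp
  have h3 := D.delta_gen
  refine ⟨by omega, by omega, ?_⟩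
  rw [eq_sig p D.rp D.cp D.hP.2.2 (z := z) (by omega)]
  exact D.snd_sig _

/-- The value of a pull-back at a divisorial point. -/
theorem pull_apply {α : X → ℤ} (hα : ∀ x, δX x + 1 ≠ δX (p (genericPoint P)) → α x = 0) {z : P}
    (hz : δP z + 1 = δP (genericPoint P)) :
    Cyc.pullFun p δP δX r α z = α (p z) := by
  haveI := D.gp; haveI := D.tp
  rw [pullFun_eq p D.rp D.cp D.hP.2.2]
  by_cases hp : p z = p (genericPoint P)
  · rw [hp, hα _ (by omega), ite_self]
  · rw [if_pos (D.vert hz hp).1]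

theorem pull_eq_zero {α : X → ℤ} (hα : ∀ x, δX x + 1 ≠ δX (p (genericPoint P)) → α x = 0) {z : P}
    (hz : δP z + 1 ≠ δP (genericPoint P)) :
    Cyc.pullFun p δP δX r α z = 0 := by
  haveI := D.gp; haveI := D.tp
  rw [pullFun_eq p D.rp D.cp D.hP.2.2]
  split_ifs with h
  · refine hα _ fun h' => hz ?_
    have := D.delta_gen
    omega
  · rfl

theorem pull_divFun (a : X.residueField (p (genericPoint P))) (ha : a ≠ 0) (z : P) :
    Cyc.divFun δP (genericPoint P) (p.residueFieldMap (genericPoint P) a) z =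
      Cyc.pullFun p δP δX r (Cyc.divFun δX (p (genericPoint P)) a) z := by
  haveI := D.tp; haveI := D.fp
  exact congrFun (S1905.result P X δP δX D.hP D.hX p r D.rp D.cp a ha).symm z

end Proj2

theorem finite_support {P : Scheme.{u}} [CompactSpace P] (γ : AlgebraicCycle P ℤ) :
    {z : P | γ z ≠ 0}.Finite := by
  have h := γ.locallyFiniteSupport.finite_inter_support_of_isCompact (isCompact_univ (X := P))
  rw [Set.univ_inter] at h
  exact h

theorem divFun_apply_self {P : Scheme.{u}} (δ : P → ℤ) (ξ : P) (g : P.residueField ξ) :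
    Cyc.divFun δ ξ g ξ = 0 := by
  rw [Cyc.divFun, dif_neg]
  exact fun h => by have := h.2; omega

theorem ratEquivZero_divFun {P : Scheme.{u}} {δ : P → ℤ} {k : ℤ} {ξ : P} (hξ : δ ξ = k + 1)
    {g : P.residueField ξ} (hg : g ≠ 0) {α : AlgebraicCycle P ℤ} (h : ∀ x, α x = Cyc.divFun δ ξ g x) :
    Cyc.RatEquivZero δ k α :=
  ⟨PUnit.{u + 1}, fun _ => ξ, fun _ => g, fun _ => hξ, fun _ => hg,
    fun _ => ⟨Set.univ, isOpen_univ, trivial, Set.toFinite _⟩, fun x => (h x).trans (finsum_unique (fun _ : PUnit.{u + 1} => Cyc.divFun δ ξ g x)).symm⟩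

variable {P X Y : Scheme.{u}} [IsIntegral P] [IsIntegral X] [IsIntegral Y] {p : P ⟶ X} {q : P ⟶ Y}
  {δP : P → ℤ} {δX : X → ℤ} {δY : Y → ℤ} {r s : ℕ}

theorem exists_split [CompactSpace P] (D : Proj2 p q δP δX δY r s) (hK : Key p q (genericPoint P))
    {k : ℤ} (hk : δP (genericPoint P) = k + 1) (γ : AlgebraicCycle P ℤ) (hγ : γ ∈ Cyc.Zk P δP k) :
    ∃ α ∈ Cyc.Zk X δX (δX (p (genericPoint P)) - 1), ∃ β ∈ Cyc.Zk Y δY (δY (q (genericPoint P)) - 1),
      ∃ γ' : AlgebraicCycle P ℤ, (∀ z, γ' z = Cyc.pullFun p δP δX r α z + Cyc.pullFun q δP δY s β z) ∧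
        Cyc.RatEquiv δP k γ γ' := by
  classical
  haveI := D.hP.1
  haveI := D.gp; haveI := D.gq
  set ξ := genericPoint P
  let S : Finset P := (finite_support γ).toFinset.filter fun z => DG p q ξ z
  have hS : ∀ z ∈ S, DG p q ξ z := fun z hz => (Finset.mem_filter.1 hz).2
  choose g hg0 hg1 hgu using fun z : S => hK.unif z.1 (hS z.1 z.2)
  let G : P.residueField ξ := ∏ z ∈ S.attach, g z ^ γ z.1
  have hG : G ≠ 0 := Finset.prod_ne_zero_iff.2 fun z _ => zpow_ne_zero _ (hg0 z)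
  have hlf : ∀ x : P, ∃ U : Set P, IsOpen U ∧ x ∈ U ∧
      {i : PUnit.{u + 1} | (closure {(fun _ => ξ) i} ∩ U).Nonempty}.Finite :=
    fun _ => ⟨Set.univ, isOpen_univ, trivial, Set.toFinite _⟩
  obtain ⟨E, hE⟩ := H22Alg.CycDiv.exists_cycle_sum (ι := PUnit.{u + 1}) (f := fun _ => G) D.hP.2.2 (fun _ => hG) hlf
  have hE' : ∀ x, E x = Cyc.divFun δP ξ G x := fun x => by rw [hE x, finsum_unique]
  have hEdg : ∀ z, DG p q ξ z → E z = γ z := by
    intro v hv
    have hd := delta_of_imm D.hP.2.2 (hK.gen v) hv.imm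
    rw [hE', KDet.divFun_prod _ _ (fun z => zpow_ne_zero _ (hg0 z))]
    have h1 : ∀ z : S, Cyc.divFun δP ξ (g z ^ γ z.1) v = if v = z.1 then γ z.1 else 0 := fun z => by
      rw [C1Api.divFun_zpow δP ξ (hg0 z), Cyc.divFun, dif_pos ⟨hK.gen v, hd⟩]
      by_cases hvz : v = z.1
      · subst hvz
        rw [if_pos rfl, hg1 z, mul_one]
      · rw [if_neg hvz, hgu z v hv hvz, mul_zero]
    rw [Finset.sum_congr rfl (fun z _ => h1 z)]
    by_cases hmem : v ∈ S
    · rw [Finset.sum_eq_single (⟨v, hmem⟩ : S) (fun z _ hzv => if_neg fun e => hzv (Subtype.ext e.symm))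
        (fun h => absurd (Finset.mem_attach _ _) h), if_pos rfl]
    · rw [Finset.sum_eq_zero fun z _ => if_neg fun (e : v = z.1) => hmem (e ▸ z.2)]
      by_contra h0
      exact hmem (Finset.mem_filter.2 ⟨(Set.Finite.mem_toFinset _).2 (fun h => h0 h.symm), hv⟩)
  set γ' := γ - E with hγ'def
  have hγ'apply : ∀ z, γ' z = γ z - E z := fun z => rfl
  have hz0 : ∀ z, δP z + 1 ≠ δP ξ → γ' z = 0 := fun z hz => by
    rw [hγ'apply, hγ z (by omega), hE', Cyc.divFun, dif_neg (fun h => hz h.2), sub_zero]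
  let a : AlgebraicCycle X ℤ :=
    ⟨fun x => if δX x + 1 = δX (p ξ) then γ' (ProdPt.sig p x) else 0, by simp, fun x _ =>
      ⟨Set.univ, Filter.univ_mem, ((finite_support γ').image p).subset fun y hy =>
        ⟨ProdPt.sig p y, fun h => hy.2 (by show (if _ then γ' (ProdPt.sig p y) else 0) = 0; rw [h, ite_self]),
          ProdPt.apply_sig p y⟩⟩⟩
  let b : AlgebraicCycle Y ℤ :=
    ⟨fun y => if δY y + 1 = δY (q ξ) then γ' (ProdPt.sig q y) else 0, by simp, fun y _ =>
      ⟨Set.univ, Filter.univ_mem, ((finite_support γ').image q).subset fun z hz =>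
        ⟨ProdPt.sig q z, fun h => hz.2 (by show (if _ then γ' (ProdPt.sig q z) else 0) = 0; rw [h, ite_self]),
          ProdPt.apply_sig q z⟩⟩⟩
  have ha : ∀ x, δX x + 1 ≠ δX (p ξ) → a x = 0 := fun x hx => if_neg hx
  have hb : ∀ y, δY y + 1 ≠ δY (q ξ) → b y = 0 := fun y hy => if_neg hy
  refine ⟨a, fun x hx => ha x (by omega), b, fun y hy => hb y (by omega), γ', fun z => ?_, ?_⟩
  · by_cases hz : δP z + 1 = δP ξ
    · rw [D.pull_apply ha hz, D.symm.pull_apply hb hz]
      by_cases hpz : p z = p ξ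
      · by_cases hqz : q z = q ξ
        · rw [hpz, hqz, ha (p ξ) (by omega), hb (q ξ) (by omega), hγ'apply,
            hEdg z ⟨hpz, hqz, imm_of_delta D.hP.2.2 hz⟩, sub_self, add_zero]
        · obtain ⟨h1, h2, -⟩ := D.symm.vert hz hqz
          haveI := D.tq
          rw [hpz, ha (p ξ) (by omega), zero_add, show b (q z) = γ' (ProdPt.sig q (q z)) from if_pos h2,
            ← eq_sig q D.rq D.cq D.hP.2.2 h1]
      · obtain ⟨h1, h2, h3⟩ := D.vert hz hpz
        haveI := D.tp
        rw [h3, hb (q ξ) (by omega), add_zero, show a (p z) = γ' (ProdPt.sig p (p z)) from if_pos h2,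
          ← eq_sig p D.rp D.cp D.hP.2.2 h1]
    · rw [hz0 z hz, D.pull_eq_zero ha hz, D.symm.pull_eq_zero hb hz, add_zero]
  · exact ratEquivZero_divFun hk hG fun x => by
      show γ x - γ' x = _
      rw [hγ'apply, sub_sub_cancel, hE']

theorem split_zero [CompactSpace P] (D : Proj2 p q δP δX δY r s) (hK : Key p q (genericPoint P))
    {k : ℤ} (hk : δP (genericPoint P) = k + 1) (α : AlgebraicCycle X ℤ)
    (hα : α ∈ Cyc.Zk X δX (δX (p (genericPoint P)) - 1))
    (β : AlgebraicCycle Y ℤ) (hβ : β ∈ Cyc.Zk Y δY (δY (q (genericPoint P)) - 1)) (γ' : AlgebraicCycle P ℤ)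
    (hγ' : ∀ z, γ' z = Cyc.pullFun p δP δX r α z + Cyc.pullFun q δP δY s β z)
    (h0 : Cyc.RatEquivZero δP k γ') :
    Cyc.RatEquivZero δX (δX (p (genericPoint P)) - 1) α ∧ Cyc.RatEquivZero δY (δY (q (genericPoint P)) - 1) β := by
  classical
  haveI := D.hP.1
  haveI := D.gp; haveI := D.gq
  have hgen : ∀ z : P, genericPoint P ⤳ z := genericPoint_specializes
  obtain ⟨ι, ζ, f, hζ, hf, hlf, hval⟩ := h0
  have hζξ : ∀ i, ζ i = genericPoint P := fun i => by
    by_contra hne
    have := (D.hP.2.2 _ _ (hgen (ζ i)) (Ne.symm hne)).1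
    have := hζ i
    omega
  haveI : Finite ι := by
    obtain ⟨U, hU, hξU, hfin⟩ := hlf (genericPoint P)
    have h : (Set.univ : Set ι) ⊆ {i | (closure {ζ i} ∩ U).Nonempty} := fun i _ =>
      ⟨genericPoint P, subset_closure (hζξ i).symm, hξU⟩
    exact Set.finite_univ_iff.1 (hfin.subset h)
  haveI := Fintype.ofFinite ι
  have htr : ∀ (w : P) (g : P.residueField w), w = genericPoint P → g ≠ 0 →
      ∃ g' : P.residueField (genericPoint P), g' ≠ 0 ∧ ∀ x, Cyc.divFun δP w g x = Cyc.divFun δP (genericPoint P) g' x := by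
    rintro w g rfl hg; exact ⟨g, hg, fun _ => rfl⟩
  choose f' hf' hff' using fun i => htr (ζ i) (f i) (hζξ i) (hf i)
  let G := ∏ i, f' i
  have hG : G ≠ 0 := Finset.prod_ne_zero_iff.2 fun i _ => hf' i
  have hGval : ∀ x, γ' x = Cyc.divFun δP (genericPoint P) G x := fun x => by
    rw [hval, KDet.divFun_prod _ _ hf', finsum_eq_sum_of_fintype]
    exact Finset.sum_congr rfl fun i _ => hff' i x
  have ha : ∀ x, δX x + 1 ≠ δX (p (genericPoint P)) → α x = 0 := fun x hx => hα x (by omega)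
  have hb : ∀ y, δY y + 1 ≠ δY (q (genericPoint P)) → β y = 0 := fun y hy => hβ y (by omega)
  have hzero : ∀ z, DG p q (genericPoint P) z → Cyc.ordAt z (genericPoint P) (hK.gen z) G = 0 := fun z hz => by
    have hd := delta_of_imm D.hP.2.2 (hgen z) hz.imm
    have h1 := hγ' z
    rw [hGval, Cyc.divFun, dif_pos ⟨hgen z, hd⟩, D.pull_apply ha hd, D.symm.pull_apply hb hd, hz.fst, hz.snd,
      ha (p (genericPoint P)) (by omega), hb (q (genericPoint P)) (by omega)] at h1
    simpa using h1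
  obtain ⟨a, b, ha0, hb0, hab⟩ := hK.split G hG hzero
  have hdiv : ∀ z, γ' z = Cyc.pullFun p δP δX r (Cyc.divFun δX (p (genericPoint P)) a) z +
      Cyc.pullFun q δP δY s (Cyc.divFun δY (q (genericPoint P)) b) z := fun z => by
    rw [hGval, hab, C1Api.divFun_mul δP (genericPoint P) ((map_ne_zero_iff _ (RingHom.injective _)).2 ha0)
      ((map_ne_zero_iff _ (RingHom.injective _)).2 hb0), D.pull_divFun a ha0, D.symm.pull_divFun b hb0]
  have hdx : ∀ (ξ₀ : X) (g : X.residueField ξ₀) x, δX x + 1 ≠ δX ξ₀ → Cyc.divFun δX ξ₀ g x = 0 := fun ξ₀ g x hx => by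
    rw [Cyc.divFun, dif_neg fun h => hx h.2]
  have hdy : ∀ (ξ₀ : Y) (g : Y.residueField ξ₀) y, δY y + 1 ≠ δY ξ₀ → Cyc.divFun δY ξ₀ g y = 0 := fun ξ₀ g y hy => by
    rw [Cyc.divFun, dif_neg fun h => hy h.2]
  refine ⟨ratEquivZero_divFun (by omega) ha0 fun x => ?_, ratEquivZero_divFun (by omega) hb0 fun y => ?_⟩
  · by_cases hx : δX x + 1 = δX (p (genericPoint P))
    · have hs := (D.sig_props hx).1
      have h1 := (hγ' (ProdPt.sig p x)).symm.trans (hdiv _)
      rw [D.pull_apply ha hs, D.symm.pull_apply hb hs, D.pull_apply (hdx _ a) hs, D.symm.pull_apply (hdy _ b) hs,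
        D.snd_sig, ProdPt.apply_sig, hb (q (genericPoint P)) (by omega), divFun_apply_self, add_zero, add_zero] at h1
      exact h1
    · rw [ha x hx, hdx _ a x hx]
  · by_cases hy : δY y + 1 = δY (q (genericPoint P))
    · have hs := (D.symm.sig_props hy).1
      have h1 := (hγ' (ProdPt.sig q y)).symm.trans (hdiv _)
      rw [D.pull_apply ha hs, D.symm.pull_apply hb hs, D.pull_apply (hdx _ a) hs, D.symm.pull_apply (hdy _ b) hs,
        D.symm.snd_sig, ProdPt.apply_sig, ha (p (genericPoint P)) (by omega), divFun_apply_self, zero_add, zero_add] at h1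
      exact h1
    · rw [hb y hy, hdy _ b y hy]

end Groth.Agent.H3Cyc.ProdDiv
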