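import Groth.Agent.H3Cyc.ProdDiv.Alg
import Groth.Agent.H3Cyc.KDiv
import Groth.Agent.H3Cyc.PushDiv
import Groth.Agent.H3Cyc.Reduction
import Groth.Agent.H22Alg.OrdFrac
import Mathlib

/-!
# Divisors of rational functions on a product, doubly generic part

`Key p q ξ`: at the points of codimension one lying over both generic points there are local
parameters, and a rational function without zeros and poles there is a product of pull-backs.
-/

set_option autoImplicit false
set_option linter.style.haveILetI false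
set_option backward.isDefEq.respectTransparency.types false

universe u

open AlgebraicGeometry CategoryTheory CategoryTheory.Limits TopologicalSpace

namespace Groth.Agent.H3Cyc.ProdDiv

/-- `z` is an immediate specialization of `ξ`. -/
structure Imm {P : Scheme.{u}} (ξ z : P) : Prop where
  ne : z ≠ ξ
  min : ∀ w : P, ξ ⤳ w → w ⤳ z → w = ξ ∨ w = z

/-- A divisorial point over both images of `ξ`. -/
structure DG {P X Y : Scheme.{u}} (p : P ⟶ X) (q : P ⟶ Y) (ξ z : P) : Prop where
  fst : p z = p ξ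
  snd : q z = q ξ
  imm : Imm ξ z

/-- A rational function is a product of pull-backs. -/
def Dec {P X Y : Scheme.{u}} (p : P ⟶ X) (q : P ⟶ Y) (ξ : P) (g : P.residueField ξ) : Prop :=
  ∃ (a : X.residueField (p ξ)) (b : Y.residueField (q ξ)), a ≠ 0 ∧ b ≠ 0 ∧
    g = p.residueFieldMap ξ a * q.residueFieldMap ξ b

/-- Doubly generic divisors are principal, and functions without them split. -/
structure Key {P X Y : Scheme.{u}} (p : P ⟶ X) (q : P ⟶ Y) (ξ : P) : Prop where
  gen : ∀ z, ξ ⤳ z
  unif : ∀ z, DG p q ξ z → ∃ g : P.residueField ξ, g ≠ 0 ∧ Cyc.ordAt z ξ (gen z) g = 1 ∧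
    ∀ z', DG p q ξ z' → z' ≠ z → Cyc.ordAt z' ξ (gen z') g = 0
  split : ∀ g : P.residueField ξ, g ≠ 0 → (∀ z, DG p q ξ z → Cyc.ordAt z ξ (gen z) g = 0) → Dec p q ξ g

theorem ord_toNat_ne_zero {R : Type u} [CommRing R] [IsDomain R] [IsNoetherianRing R] [Ring.KrullDimLE 1 R]
    {x : R} (hx : x ≠ 0) (hu : ¬ IsUnit x) : (Ring.ord R x).toNat ≠ 0 := by
  rw [ne_eq, ENat.toNat_eq_zero, not_or]
  refine ⟨fun h => hu ?_, Ring.ord_ne_top (mem_nonZeroDivisors_of_ne_zero hx)⟩
  rw [Ring.ord, Module.length_eq_zero_iff, Ideal.Quotient.subsingleton_iff, Ideal.span_singleton_eq_top] at h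
  exact h

section affine

variable (k : Type u) [Field k] (B : Type u) [CommRing B] [Algebra k B] (σ : Type u)

/-- The projection to affine space. -/
noncomputable def prA : Spec (CommRingCat.of (MvPolynomial σ B)) ⟶ Spec (CommRingCat.of (MvPolynomial σ k)) :=
  Spec.map (CommRingCat.ofHom (MvPolynomial.map (algebraMap k B)))

/-- The projection to the coefficients. -/
noncomputable def prB : Spec (CommRingCat.of (MvPolynomial σ B)) ⟶ Spec (CommRingCat.of B) :=
  Spec.map (CommRingCat.ofHom MvPolynomial.C)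

/-- A ring element as a value at a point. -/
noncomputable def ev {R : Type u} [CommRing R] (x : Spec (CommRingCat.of R)) :
    R →+* (Spec (CommRingCat.of R)).residueField x :=
  ((Scheme.ΓSpecIso (CommRingCat.of R)).inv ≫ (Spec (CommRingCat.of R)).Γevaluation x).hom

theorem rfm_ev {R S : Type u} [CommRing R] [CommRing S] (f : R →+* S) (x : Spec (CommRingCat.of S)) (a : R) :
    (Spec.map (CommRingCat.ofHom f)).residueFieldMap x (ev (Spec.map (CommRingCat.ofHom f) x) a) = ev x (f a) := by
  refine (Scheme.Γevaluation_naturality_apply _ x _).trans ?_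
  exact congrArg ((Spec (CommRingCat.of S)).Γevaluation x).hom
    (ConcreteCategory.congr_hom (Scheme.ΓSpecIso_inv_naturality (CommRingCat.ofHom f)) a).symm

variable {k B σ}

theorem ev_ne_zero {R : Type u} [CommRing R] (x : Spec (CommRingCat.of R)) {a : R} (ha : a ∉ x.asIdeal) :
    ev x a ≠ 0 :=
  (((IsLocalization.map_units (R := R) (M := x.asIdeal.primeCompl)
    ((Spec.structureSheaf R).presheaf.stalk x) ⟨a, ha⟩)).map
      ((Spec (CommRingCat.of R)).residue x).hom).ne_zero

variable [IsAlgClosed k] [IsDomain B] [Algebra.FiniteType k B] [Finite σ]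

set_option maxHeartbeats 1600000 in
theorem key_affine :
    Key (prA k B σ) (prB B σ) (genericPoint (Spec (CommRingCat.of (MvPolynomial σ B)))) := by
  classical
  set Z := Spec (CommRingCat.of (MvPolynomial σ B)) with hZ
  set ξ := genericPoint Z with hξ
  haveI : IsNoetherianRing B := Algebra.FiniteType.isNoetherianRing k B
  haveI : IsNoetherianRing (MvPolynomial σ B) := inferInstance
  have hbot : ξ.asIdeal = ⊥ := by rw [hξ, genericPoint_eq_bot_of_affine]; rfl
  have hgen : ∀ z, ξ ⤳ z := genericPoint_specializes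
  have hle : ∀ z w : Z, w ⤳ z ↔ w.asIdeal ≤ z.asIdeal := fun z w => (PrimeSpectrum.le_iff_specializes w z).symm
  have hdg : ∀ z : Z, DG (prA k B σ) (prB B σ) ξ z ↔ Alg.IsHor k z.asIdeal := by
    intro z
    have hA : prA k B σ z = prA k B σ ξ ↔ ∀ h : MvPolynomial σ k, MvPolynomial.map (algebraMap k B) h ∈ z.asIdeal → h = 0 := by
      constructor
      · intro e h hh
        have h1 : h ∈ (prA k B σ ξ).asIdeal := e ▸ hh
        have h2 : MvPolynomial.map (algebraMap k B) h ∈ ξ.asIdeal := h1
        rw [hbot, Ideal.mem_bot] at h2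
        exact (map_eq_zero_iff _ (MvPolynomial.map_injective _ (algebraMap k B).injective)).1 h2
      · intro H
        refine PrimeSpectrum.ext (Ideal.ext fun h => ⟨fun hh => ?_, fun hh => ?_⟩)
        · rw [H h hh]; exact Ideal.zero_mem _
        · have h2 : MvPolynomial.map (algebraMap k B) h ∈ ξ.asIdeal := hh
          rw [hbot, Ideal.mem_bot] at h2
          show MvPolynomial.map (algebraMap k B) h ∈ z.asIdeal
          rw [h2]; exact Ideal.zero_mem _
    have hB : prB B σ z = prB B σ ξ ↔ ∀ b : B, MvPolynomial.C b ∈ z.asIdeal → b = 0 := by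
      constructor
      · intro e h hh
        have h1 : h ∈ (prB B σ ξ).asIdeal := e ▸ hh
        have h2 : MvPolynomial.C h ∈ ξ.asIdeal := h1
        rwa [hbot, Ideal.mem_bot, MvPolynomial.C_eq_zero] at h2
      · intro H
        refine PrimeSpectrum.ext (Ideal.ext fun h => ⟨fun hh => ?_, fun hh => ?_⟩)
        · rw [H h hh]; exact Ideal.zero_mem _
        · have h2 : MvPolynomial.C h ∈ ξ.asIdeal := hh
          rw [hbot, Ideal.mem_bot] at h2
          show MvPolynomial.C h ∈ z.asIdeal
          rw [h2]; exact Ideal.zero_mem _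
    constructor
    · intro h
      refine ⟨z.2, fun h0 => h.imm.ne (PrimeSpectrum.ext (h0.trans hbot.symm)), hB.1 h.snd, hA.1 h.fst, ?_⟩
      intro q' hq' hle'
      rcases h.imm.min ⟨q', hq'⟩ (hgen _) ((hle _ _).2 hle') with e | e
      · exact Or.inl ((congrArg PrimeSpectrum.asIdeal e).trans hbot)
      · exact Or.inr (congrArg PrimeSpectrum.asIdeal e)
    · intro h
      refine ⟨hA.2 h.pol, hB.2 h.const, fun e => h.ne_bot (e ▸ hbot), fun w _ hwz => ?_⟩
      rcases h.min _ w.2 ((hle _ _).1 hwz) with e | e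
      · exact Or.inl (PrimeSpectrum.ext (e.trans hbot.symm))
      · exact Or.inr (PrimeSpectrum.ext e)
  have hdim : ∀ z : Z, DG (prA k B σ) (prB B σ) ξ z → ringKrullDim (Z.presheaf.stalk z) ≤ 1 := by
    intro z hz
    let L := (Spec.structureSheaf (MvPolynomial σ B)).presheaf.stalk z
    haveI : IsLocalRing L := IsLocalization.AtPrime.isLocalRing L z.asIdeal
    haveI : IsDomain L := IsLocalization.isDomain_of_le_nonZeroDivisors L
      (Ideal.primeCompl_le_nonZeroDivisors z.asIdeal)
    refine Ring.krullDimLE_iff.1 (Ring.krullDimLE_one_iff.2 fun (I : Ideal L) hI => ?_)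
    have h1 := (IsLocalization.isPrime_iff_isPrime_disjoint z.asIdeal.primeCompl L I).1 hI
    have h2 : I.comap (algebraMap (MvPolynomial σ B) L) ≤ z.asIdeal := fun x hx => by
      by_contra hxz
      exact Set.disjoint_left.1 h1.2 hxz hx
    rcases ((hdg z).1 hz).min _ h1.1 h2 with e | e
    · refine Or.inl ?_
      have : I = ⊥ := by
        rw [← IsLocalization.map_comap z.asIdeal.primeCompl L I]
        exact (congrArg (Ideal.map _) e).trans Ideal.map_bot
      rw [this, IsDomain.minimalPrimes_eq_singleton_bot]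
      rfl
    · refine Or.inr ?_
      have : I = IsLocalRing.maximalIdeal L := by
        rw [← IsLocalization.map_comap z.asIdeal.primeCompl L I]
        exact (congrArg (Ideal.map _) e).trans (IsLocalization.AtPrime.map_eq_maximalIdeal z.asIdeal L)
      rw [this]
      exact IsLocalRing.maximalIdeal.isMaximal L
  have hloc : ∀ z : Z, IsLocalRing ((Spec.structureSheaf (MvPolynomial σ B)).presheaf.stalk z) := fun z =>
    IsLocalization.AtPrime.isLocalRing _ z.asIdeal
  haveI : ∀ z : Z, IsLocalRing ((Spec.structureSheaf (MvPolynomial σ B)).presheaf.stalk z) := hloc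
  haveI : ∀ z : Z, IsLocalRing (Z.presheaf.stalk z) := hloc
  let st : ∀ z : Z, MvPolynomial σ B →+* Z.presheaf.stalk z := fun z =>
    (StructureSheaf.toStalk (MvPolynomial σ B) z).hom
  have hev0 : ∀ a, a ≠ 0 → ev ξ a ≠ 0 := fun a ha => ev_ne_zero ξ (by rw [hbot]; simpa using ha)
  have hord : ∀ (z : Z), DG (prA k B σ) (prB B σ) ξ z → ∀ a b, a ≠ 0 → b ≠ 0 →
      Cyc.ordAt z ξ (hgen z) (ev ξ a / ev ξ b) =
        ((Ring.ord (Z.presheaf.stalk z) (st z a)).toNat : ℤ) - ((Ring.ord (Z.presheaf.stalk z) (st z b)).toNat : ℤ) := by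
    intro z hz a b ha hb
    exact PushDiv.ordAt_div (X := Z) z (hdim z hz) (W := ⊤) trivial trivial
      ((Scheme.ΓSpecIso _).inv a) ((Scheme.ΓSpecIso _).inv b) (hev0 a ha) (hev0 b hb)
  have hunit : ∀ (z : Z) (a), a ∉ z.asIdeal → IsUnit (st z a) := fun z a ha =>
    IsLocalization.map_units (R := MvPolynomial σ B) (M := z.asIdeal.primeCompl)
      ((Spec.structureSheaf (MvPolynomial σ B)).presheaf.stalk z) ⟨a, ha⟩
  have hmemu : ∀ (z : Z) (a), a ∈ z.asIdeal → ¬ IsUnit (st z a) := fun z a ha hu =>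
    (IsLocalization.AtPrime.isUnit_to_map_iff ((Spec.structureSheaf (MvPolynomial σ B)).presheaf.stalk z) z.asIdeal a).1
      hu ha
  have hst0 : ∀ (z : Z) (a), a ≠ 0 → st z a ≠ 0 := fun z a ha h =>
    ha ((IsLocalization.injective ((Spec.structureSheaf (MvPolynomial σ B)).presheaf.stalk z)
      (Ideal.primeCompl_le_nonZeroDivisors z.asIdeal)) (h.trans (map_zero _).symm))
  have hpos : ∀ (z : Z), DG (prA k B σ) (prB B σ) ξ z → ∀ a, a ≠ 0 → a ∈ z.asIdeal →
      (Ring.ord (Z.presheaf.stalk z) (st z a)).toNat ≠ 0 := fun z hz a ha hmem => by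
    haveI : Ring.KrullDimLE 1 (Z.presheaf.stalk z) := Ring.krullDimLE_iff.2 (hdim z hz)
    exact ord_toNat_ne_zero (hst0 z a ha) (hmemu z a hmem)
  refine ⟨hgen, fun z hz => ?_, fun g hg hzero => ?_⟩
  · obtain ⟨π, hπz, hπ0, hπgen, hπuniq⟩ := Alg.exists_unif k ((hdg z).1 hz)
    have h1 : ∀ w, DG (prA k B σ) (prB B σ) ξ w →
        Cyc.ordAt w ξ (hgen w) (ev ξ π) = ((Ring.ord (Z.presheaf.stalk w) (st w π)).toNat : ℤ) := fun w hw => by
      have h := hord w hw π 1 hπ0 one_ne_zero
      rw [map_one, div_one, map_one, Ring.ord_one] at h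
      simpa using h
    refine ⟨ev ξ π, hev0 π hπ0, ?_, fun z' hz' hne => ?_⟩
    · rw [h1 z hz]
      have hm : IsLocalRing.maximalIdeal (Z.presheaf.stalk z) = Ideal.span {st z π} := by
        refine le_antisymm ?_ ?_
        · refine (IsLocalization.AtPrime.map_eq_maximalIdeal z.asIdeal
            ((Spec.structureSheaf (MvPolynomial σ B)).presheaf.stalk z)).ge.trans ?_
          refine Ideal.map_le_iff_le_comap.2 fun x hx => ?_
          obtain ⟨s, hs, hsx⟩ := hπgen x hx
          rw [Ideal.mem_span_singleton] at hsx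
          obtain ⟨d, hd⟩ := hsx
          show st z x ∈ Ideal.span {st z π}
          rw [← (hunit z s hs).unit.inv_mul_cancel_left (st z x)]
          refine Ideal.mul_mem_left _ _ (Ideal.mem_span_singleton.2 ⟨st z d, ?_⟩)
          rw [IsUnit.unit_spec, ← map_mul, ← map_mul, hd]
        · rw [Ideal.span_singleton_le_iff_mem]
          exact hmemu z π hπz
      have h2 : Ring.ord (Z.presheaf.stalk z) (st z π) = 1 := by
        rw [Ring.ord, ← hm, Module.length_eq_one_iff, isSimpleModule_iff_isCoatom]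
        exact (IsLocalRing.maximalIdeal.isMaximal _).out
      rw [h2]; simp
    · rw [h1 z' hz', Ring.ord_of_isUnit (hunit z' π fun h => hne (PrimeSpectrum.ext (hπuniq _ ((hdg z').1 hz') h)))]
      simp
  · obtain ⟨a, b, hb, rfl⟩ : ∃ a b : MvPolynomial σ B, b ≠ 0 ∧ ev ξ a / ev ξ b = g := by
      obtain ⟨t, rfl⟩ := IsLocalRing.residue_surjective (R := Z.presheaf.stalk ξ) g
      obtain ⟨⟨a, b, hb⟩, e⟩ := IsLocalization.surj (R := MvPolynomial σ B) (M := ξ.asIdeal.primeCompl)
        (S := (Spec.structureSheaf (MvPolynomial σ B)).presheaf.stalk ξ) t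
      have hb0 : b ≠ 0 := fun h => hb (show b ∈ ξ.asIdeal from h.symm ▸ Ideal.zero_mem _)
      refine ⟨a, b, hb0, ?_⟩
      rw [div_eq_iff (hev0 b hb0)]
      exact (congrArg (Z.residue ξ).hom e).symm.trans (map_mul _ _ _)
    have ha : a ≠ 0 := fun h => hg (by rw [h, map_zero, zero_div])
    rcases Alg.split_or_exists k ha hb with ⟨b₁, b₂, g₁, g₂, hb₁, hb₂, hg₁, hg₂, he⟩ | ⟨q, hq, a', b', he, ha', hb', hcase⟩
    · have hA : ∀ h : MvPolynomial σ k, h ≠ 0 → ev (prA k B σ ξ) h ≠ 0 := fun h hh =>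
        ev_ne_zero _ fun (h' : MvPolynomial.map (algebraMap k B) h ∈ ξ.asIdeal) => by
          rw [hbot, Ideal.mem_bot] at h'
          exact hh ((map_eq_zero_iff _ (MvPolynomial.map_injective _ (algebraMap k B).injective)).1 h')
      have hB : ∀ h : B, h ≠ 0 → ev (prB B σ ξ) h ≠ 0 := fun h hh =>
        ev_ne_zero _ fun (h' : MvPolynomial.C h ∈ ξ.asIdeal) => by
          rw [hbot, Ideal.mem_bot, MvPolynomial.C_eq_zero] at h'
          exact hh h'
      refine ⟨ev (prA k B σ ξ) g₁ / ev (prA k B σ ξ) g₂, ev (prB B σ ξ) b₁ / ev (prB B σ ξ) b₂,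
        div_ne_zero (hA _ hg₁) (hA _ hg₂), div_ne_zero (hB _ hb₁) (hB _ hb₂), ?_⟩
      rw [map_div₀, map_div₀]
      erw [rfm_ev, rfm_ev, rfm_ev, rfm_ev]
      rw [div_mul_div_comm, div_eq_div_iff (hev0 b hb)
        (mul_ne_zero (hev0 _ fun h => hg₂ ((map_eq_zero_iff _ (MvPolynomial.map_injective _ (algebraMap k B).injective)).1 h))
          (hev0 _ fun h => hb₂ (MvPolynomial.C_eq_zero.1 h)))]
      simp only [← map_mul]
      congr 1
      linear_combination he
    · exfalso
      have hz : DG (prA k B σ) (prB B σ) ξ ⟨q, hq.prime⟩ := (hdg _).2 hq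
      have h0 := hzero _ hz
      have e : ev ξ a / ev ξ b = ev ξ a' / ev ξ b' := by
        rw [div_eq_div_iff (hev0 b hb) (hev0 b' hb'), ← map_mul, ← map_mul, he, mul_comm b a']
      rw [e, hord _ hz a' b' ha' hb'] at h0
      rcases hcase with ⟨h1, h2⟩ | ⟨h1, h2⟩
      · rw [Ring.ord_of_isUnit (hunit ⟨q, hq.prime⟩ b' h2)] at h0
        exact hpos _ hz a' ha' h1 (by simpa using h0)
      · rw [Ring.ord_of_isUnit (hunit ⟨q, hq.prime⟩ a' h1)] at h0
        exact hpos _ hz b' hb' h2 (by simpa using h0)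

end affine

end Groth.Agent.H3Cyc.ProdDiv
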