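import Groth.Agent.H19Grp.AlgClosedGeom
import Mathlib

/-!
# Horizontal height one primes of `B[t]`

For a domain `B` over an algebraically closed field `k`, the nonzero minimal primes of `B[t]` meeting
both `B` and `k[t]` trivially carry uniformizers, and they detect whether a fraction is the product
of an element of `Frac B` and an element of `k(t)`.
-/

set_option autoImplicit false
set_option linter.style.haveILetI false

universe u

open MvPolynomial TensorProduct

namespace Groth.Agent.H3Cyc.ProdDiv.Alg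

variable (k : Type u) [Field k] {B : Type u} [CommRing B] [IsDomain B] [Algebra k B] {σ : Type u}

/-- A minimal nonzero prime of `B[t]` lying over the generic points of `Spec B` and of affine space. -/
structure IsHor (q : Ideal (MvPolynomial σ B)) : Prop where
  prime : q.IsPrime
  ne_bot : q ≠ ⊥
  const : ∀ b : B, C b ∈ q → b = 0
  pol : ∀ h : MvPolynomial σ k, MvPolynomial.map (algebraMap k B) h ∈ q → h = 0
  min : ∀ q' : Ideal (MvPolynomial σ B), q'.IsPrime → q' ≤ q → q' = ⊥ ∨ q' = q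

theorem prime_map [IsAlgClosed k] {K : Type u} [Field K] [Algebra k K] {h : MvPolynomial σ k}
    (hh : Prime h) : Prime (MvPolynomial.map (algebraMap k K) h) := by
  have hne : MvPolynomial.map (algebraMap k K) h ≠ 0 :=
    (map_ne_zero_iff _ (MvPolynomial.map_injective _ (algebraMap k K).injective)).2 hh.ne_zero
  let I : Ideal (MvPolynomial σ k) := Ideal.span {h}
  haveI : I.IsPrime := (Ideal.span_singleton_prime hh.ne_zero).2 hh
  haveI : IsDomain (K ⊗[k] (MvPolynomial σ k ⧸ I)) := H19Grp.isDomain_tensorProduct K _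
  let f : K ⊗[k] MvPolynomial σ k →ₐ[k] K ⊗[k] (MvPolynomial σ k ⧸ I) :=
    Algebra.TensorProduct.map (AlgHom.id k K) (Ideal.Quotient.mkₐ k I)
  let Ψ : MvPolynomial σ K ≃+* K ⊗[k] MvPolynomial σ k :=
    (MvPolynomial.algebraTensorAlgEquiv k K).symm.toRingEquiv
  haveI hker : (RingHom.ker (f.toRingHom.comp Ψ.toRingHom)).IsPrime := RingHom.ker_isPrime _
  have e : RingHom.ker (f.toRingHom.comp Ψ.toRingHom) = Ideal.span {MvPolynomial.map (algebraMap k K) h} := by
    rw [← RingHom.comap_ker]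
    have h1 : RingHom.ker f.toRingHom = (RingHom.ker (Ideal.Quotient.mkₐ k I)).map
        (Algebra.TensorProduct.includeRight : MvPolynomial σ k →ₐ[k] K ⊗[k] MvPolynomial σ k) :=
      Algebra.TensorProduct.lTensor_ker _ (Ideal.Quotient.mkₐ_surjective k I)
    have h2 : RingHom.ker (Ideal.Quotient.mkₐ k I) = Ideal.span {h} := Ideal.mk_ker
    rw [h1, h2, Ideal.map_span, Set.image_singleton]
    show Ideal.comap Ψ _ = _
    rw [← Ideal.map_symm, Ideal.map_span, Set.image_singleton]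
    congr 2
    show MvPolynomial.algebraTensorAlgEquiv k K (1 ⊗ₜ h) = _
    rw [MvPolynomial.algebraTensorAlgEquiv_tmul, one_smul]
  exact (Ideal.span_singleton_prime hne).1 (e ▸ hker)

/-- A divisor of a polynomial with coefficients in `k` is such a polynomial, up to a constant. -/
theorem exists_eq_of_dvd [IsAlgClosed k] [Finite σ] {K : Type u} [Field K] [Algebra k K] (h : MvPolynomial σ k) :
    h ≠ 0 → ∀ P : MvPolynomial σ K, P ∣ MvPolynomial.map (algebraMap k K) h →
      ∃ (c : K) (g : MvPolynomial σ k), P = C c * MvPolynomial.map (algebraMap k K) g := by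
  have unit_case : ∀ P : MvPolynomial σ K, IsUnit P → ∃ (c : K) (g : MvPolynomial σ k),
      P = C c * MvPolynomial.map (algebraMap k K) g := fun P hP => by
    obtain ⟨c, -, hc⟩ := MvPolynomial.isUnit_iff_eq_C_of_isReduced.1 hP
    exact ⟨c, 1, by rw [map_one, mul_one, hc]⟩
  refine UniqueFactorizationMonoid.induction_on_prime h (fun h0 => absurd rfl h0)
    (fun x hx _ P hP => unit_case P (isUnit_of_dvd_unit hP (hx.map _))) ?_
  intro a p ha hp ih _ P hP
  rw [map_mul] at hP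
  have hp' := prime_map k (K := K) hp
  by_cases hdiv : MvPolynomial.map (algebraMap k K) p ∣ P
  · obtain ⟨P₁, rfl⟩ := hdiv
    obtain ⟨c, g, rfl⟩ := ih ha P₁ ((mul_dvd_mul_iff_left hp'.ne_zero).1 hP)
    exact ⟨c, p * g, by rw [map_mul]; ring⟩
  · obtain ⟨d, hd⟩ := hP
    have hdd : MvPolynomial.map (algebraMap k K) p ∣ P * d := ⟨_, hd.symm⟩
    obtain ⟨d', rfl⟩ := (hp'.dvd_or_dvd hdd).resolve_left hdiv
    refine ih ha P ⟨d', mul_left_cancel₀ hp'.ne_zero ?_⟩
    rw [hd]; ring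

section base

attribute [local instance] MvPolynomial.algebraMvPolynomial

variable (K : Type u) [Field K] [Algebra B K] [IsFractionRing B K]

/-- Constants that are not zero. -/
noncomputable abbrev M (B : Type u) [CommRing B] (σ : Type u) : Submonoid (MvPolynomial σ B) :=
  (nonZeroDivisors B).map (C (σ := σ))

theorem injective : Function.Injective (algebraMap (MvPolynomial σ B) (MvPolynomial σ K)) :=
  MvPolynomial.map_injective _ (IsFractionRing.injective B K)

theorem notMem_of_mem_M {q : Ideal (MvPolynomial σ B)} (hc : ∀ b : B, C b ∈ q → b = 0)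
    {m : MvPolynomial σ B} (hm : m ∈ M B σ) : m ∉ q := by
  obtain ⟨b, hb, rfl⟩ := hm
  exact fun hmem => nonZeroDivisors.ne_zero hb (hc b hmem)

theorem disjoint_M {q : Ideal (MvPolynomial σ B)} (hc : ∀ b : B, C b ∈ q → b = 0) :
    Disjoint (M B σ : Set (MvPolynomial σ B)) q :=
  Set.disjoint_left.2 fun _ hm => notMem_of_mem_M hc hm

theorem comap_span_ne_bot {π₀ : MvPolynomial σ K} (hπ : π₀ ≠ 0) :
    (Ideal.span {π₀}).comap (algebraMap (MvPolynomial σ B) (MvPolynomial σ K)) ≠ ⊥ := by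
  haveI : IsLocalization (M B σ) (MvPolynomial σ K) := MvPolynomial.isLocalization (nonZeroDivisors B) K
  intro h
  have h2 := IsLocalization.map_comap (M B σ) (MvPolynomial σ K) (Ideal.span {π₀})
  change Ideal.map _ ((Ideal.span {π₀}).comap _) = _ at h2
  rw [h, Ideal.map_bot] at h2
  exact hπ (Ideal.span_singleton_eq_bot.1 h2.symm)

theorem const_span {π₀ : MvPolynomial σ K} (hπ : Prime π₀) (b : B)
    (hb : C b ∈ (Ideal.span {π₀}).comap (algebraMap (MvPolynomial σ B) (MvPolynomial σ K))) : b = 0 := by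
  by_contra hb0
  refine hπ.not_unit (isUnit_of_dvd_unit (Ideal.mem_span_singleton.1 hb) ?_)
  rw [MvPolynomial.algebraMap_def, map_C]
  exact (IsUnit.mk0 _ ((map_ne_zero_iff _ (IsFractionRing.injective B K)).2 hb0)).map C

theorem min_span {π₀ : MvPolynomial σ K} (hπ : Prime π₀) (q' : Ideal (MvPolynomial σ B)) (hq' : q'.IsPrime)
    (hle : q' ≤ (Ideal.span {π₀}).comap (algebraMap (MvPolynomial σ B) (MvPolynomial σ K))) :
    q' = ⊥ ∨ q' = (Ideal.span {π₀}).comap (algebraMap (MvPolynomial σ B) (MvPolynomial σ K)) := by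
  haveI : IsLocalization (M B σ) (MvPolynomial σ K) := MvPolynomial.isLocalization (nonZeroDivisors B) K
  refine or_iff_not_imp_left.2 fun hne => le_antisymm hle ?_
  have hc' : ∀ b : B, C b ∈ q' → b = 0 := fun b hb => const_span K hπ b (hle hb)
  have hP := IsLocalization.isPrime_of_isPrime_disjoint (M B σ) (MvPolynomial σ K) q' hq' (disjoint_M hc')
  have hne' : q'.map (algebraMap (MvPolynomial σ B) (MvPolynomial σ K)) ≠ ⊥ := fun h =>
    hne ((Ideal.map_eq_bot_iff_of_injective (injective K)).1 h)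
  obtain ⟨π₁, hπ₁, hπ₁p⟩ := hP.exists_mem_prime_of_ne_bot hne'
  have h1 : π₁ ∈ Ideal.span {π₀} := Ideal.map_le_iff_le_comap.2 hle hπ₁
  have hass : Associated π₀ π₁ := hπ.associated_of_dvd hπ₁p (Ideal.mem_span_singleton.1 h1)
  intro x hx
  have hx' : algebraMap (MvPolynomial σ B) (MvPolynomial σ K) x ∈ q'.map (algebraMap _ _) :=
    Ideal.mem_of_dvd _ (hass.symm.dvd.trans (Ideal.mem_span_singleton.1 hx)) hπ₁
  obtain ⟨⟨⟨a, ha⟩, ⟨m, hm⟩⟩, he⟩ := (IsLocalization.mem_map_algebraMap_iff (M B σ) (MvPolynomial σ K)).1 hx'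
  rw [← map_mul] at he
  have he' : x * m = a := injective K he
  exact (hq'.mem_or_mem (he' ▸ ha)).resolve_right (notMem_of_mem_M hc' hm)

variable [Algebra k K] [IsScalarTower k B K]

theorem algebraMap_map (h : MvPolynomial σ k) :
    algebraMap (MvPolynomial σ B) (MvPolynomial σ K) (MvPolynomial.map (algebraMap k B) h) =
      MvPolynomial.map (algebraMap k K) h := by
  rw [MvPolynomial.algebraMap_def, MvPolynomial.map_map, ← IsScalarTower.algebraMap_eq]

theorem exists_unif [Finite σ] {q : Ideal (MvPolynomial σ B)} (hq : IsHor k q) :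
    ∃ π ∈ q, π ≠ 0 ∧ (∀ x ∈ q, ∃ s ∉ q, s * x ∈ Ideal.span {π}) ∧
      ∀ q', IsHor k q' → π ∈ q' → q' = q := by
  let K := FractionRing B
  haveI : IsLocalization (M B σ) (MvPolynomial σ K) := MvPolynomial.isLocalization (nonZeroDivisors B) K
  have hP := IsLocalization.isPrime_of_isPrime_disjoint (M B σ) (MvPolynomial σ K) q hq.prime (disjoint_M hq.const)
  have hne : q.map (algebraMap (MvPolynomial σ B) (MvPolynomial σ K)) ≠ ⊥ := fun h =>
    hq.ne_bot ((Ideal.map_eq_bot_iff_of_injective (injective K)).1 h)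
  obtain ⟨π₀, hπ₀, hπ₀p⟩ := hP.exists_mem_prime_of_ne_bot hne
  obtain ⟨⟨π, m⟩, hπ⟩ := IsLocalization.surj (M B σ) π₀
  have hu : IsUnit (algebraMap (MvPolynomial σ B) (MvPolynomial σ K) m) :=
    IsLocalization.map_units (MvPolynomial σ K) m
  have hass : Associated π₀ (algebraMap _ (MvPolynomial σ K) π) := ⟨hu.unit, hπ⟩
  have hπmem : π ∈ (Ideal.span {π₀}).comap (algebraMap (MvPolynomial σ B) (MvPolynomial σ K)) :=
    Ideal.mem_span_singleton.2 hass.dvd
  have hπ0 : π ≠ 0 := fun h => hπ₀p.ne_zero (hass.eq_zero_iff.2 (by rw [h, map_zero]))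
  have hsp : ∀ q', IsHor k q' → π ∈ q' →
      (Ideal.span {π₀}).comap (algebraMap (MvPolynomial σ B) (MvPolynomial σ K)) = q' := by
    intro q' hq' hπq'
    haveI := (Ideal.span_singleton_prime hπ₀p.ne_zero).2 hπ₀p
    refine (hq'.min _ (Ideal.comap_isPrime _ _) fun x hx => ?_).resolve_left (comap_span_ne_bot K hπ₀p.ne_zero)
    have hx' : algebraMap (MvPolynomial σ B) (MvPolynomial σ K) x ∈ q'.map (algebraMap _ _) :=
      Ideal.mem_of_dvd _ (hass.symm.dvd.trans (Ideal.mem_span_singleton.1 hx)) (Ideal.mem_map_of_mem _ hπq')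
    obtain ⟨⟨⟨a, ha⟩, ⟨m', hm'⟩⟩, he⟩ :=
      (IsLocalization.mem_map_algebraMap_iff (M B σ) (MvPolynomial σ K)).1 hx'
    rw [← map_mul] at he
    have he' : x * m' = a := injective K he
    exact (hq'.prime.mem_or_mem (he' ▸ ha)).resolve_right (notMem_of_mem_M hq'.const hm')
  have hπq : π ∈ q := by
    have h1 : algebraMap (MvPolynomial σ B) (MvPolynomial σ K) π ∈ q.map (algebraMap _ _) :=
      Ideal.mem_of_dvd _ hass.dvd hπ₀
    obtain ⟨⟨⟨a, ha⟩, ⟨m', hm'⟩⟩, he⟩ := (IsLocalization.mem_map_algebraMap_iff (M B σ) (MvPolynomial σ K)).1 h1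
    rw [← map_mul] at he
    have he' : π * m' = a := injective K he
    exact (hq.prime.mem_or_mem (he' ▸ ha)).resolve_right (notMem_of_mem_M hq.const hm')
  refine ⟨π, hπq, hπ0, fun x hx => ?_, fun q' hq' h => (hsp q' hq' h).symm.trans (hsp q hq hπq)⟩
  have hx' : algebraMap _ (MvPolynomial σ K) x ∈ Ideal.span {π₀} := by
    rw [← hsp q hq hπq] at hx
    exact hx
  obtain ⟨e, he⟩ := hass.symm.dvd.trans (Ideal.mem_span_singleton.1 hx')
  obtain ⟨⟨d, m'⟩, hd⟩ := IsLocalization.surj (M B σ) e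
  refine ⟨m', notMem_of_mem_M hq.const m'.2, Ideal.mem_span_singleton.2 ⟨d, injective K ?_⟩⟩
  simp only at hd
  rw [map_mul, map_mul, he, ← hd]
  ring

theorem aux [Finite σ] [IsAlgClosed k] {a b : MvPolynomial σ B} {P Q : MvPolynomial σ K} (hP : P ≠ 0)
    (hco : IsRelPrime P Q) (hab : algebraMap _ (MvPolynomial σ K) a * Q = algebraMap _ (MvPolynomial σ K) b * P) :
    (∃ (c : K) (g : MvPolynomial σ k), P = C c * MvPolynomial.map (algebraMap k K) g) ∨
      ∃ q, IsHor k q ∧ ∃ a' b' : MvPolynomial σ B, a * b' = b * a' ∧ a' ≠ 0 ∧ a' ∈ q ∧ b' ∉ q := by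
  haveI : IsLocalization (M B σ) (MvPolynomial σ K) := MvPolynomial.isLocalization (nonZeroDivisors B) K
  by_cases H : ∀ π₀ : MvPolynomial σ K, Prime π₀ → π₀ ∣ P →
      ∃ h : MvPolynomial σ k, h ≠ 0 ∧ π₀ ∣ MvPolynomial.map (algebraMap k K) h
  · refine Or.inl ?_
    suffices hh : P ≠ 0 → (∀ π₀ : MvPolynomial σ K, Prime π₀ → π₀ ∣ P →
        ∃ h : MvPolynomial σ k, h ≠ 0 ∧ π₀ ∣ MvPolynomial.map (algebraMap k K) h) →
        ∃ h : MvPolynomial σ k, h ≠ 0 ∧ P ∣ MvPolynomial.map (algebraMap k K) h by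
      obtain ⟨h, h0, hd⟩ := hh hP H
      exact exists_eq_of_dvd k h h0 P hd
    refine UniqueFactorizationMonoid.induction_on_prime P (fun h => absurd rfl h)
      (fun x hx _ _ => ⟨1, one_ne_zero, hx.dvd⟩) ?_
    intro x π₀ hx hπ₀ ih _ hall
    obtain ⟨h₁, h₁0, hd₁⟩ := hall π₀ hπ₀ (dvd_mul_right _ _)
    obtain ⟨h₂, h₂0, hd₂⟩ := ih hx fun π' hπ' hd' => hall π' hπ' (hd'.mul_left _)
    exact ⟨h₁ * h₂, mul_ne_zero h₁0 h₂0, by rw [map_mul]; exact mul_dvd_mul hd₁ hd₂⟩
  · refine Or.inr ?_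
    push_neg at H
    obtain ⟨π₀, hπ₀, hπP, hno⟩ := H
    haveI := (Ideal.span_singleton_prime hπ₀.ne_zero).2 hπ₀
    refine ⟨_, ⟨Ideal.comap_isPrime _ _, comap_span_ne_bot K hπ₀.ne_zero, const_span K hπ₀, fun h hh => ?_,
      min_span K hπ₀⟩, ?_⟩
    · by_contra h0
      exact hno h h0 (algebraMap_map (B := B) k K h ▸ Ideal.mem_span_singleton.1 hh)
    obtain ⟨⟨a'', m₁⟩, h₁⟩ := IsLocalization.surj (M B σ) P
    obtain ⟨⟨b'', m₂⟩, h₂⟩ := IsLocalization.surj (M B σ) Q
    simp only at h₁ h₂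
    refine ⟨a'' * m₂, b'' * m₁, injective K ?_, fun h => ?_, ?_, fun h => ?_⟩
    · simp only [map_mul, ← h₁, ← h₂]
      linear_combination (algebraMap _ (MvPolynomial σ K) (m₂ : MvPolynomial σ B) *
        algebraMap _ (MvPolynomial σ K) (m₁ : MvPolynomial σ B)) * hab
    · have := congrArg (algebraMap _ (MvPolynomial σ K)) h
      rw [map_zero, map_mul, ← h₁] at this
      rcases mul_eq_zero.1 this with h3 | h3
      · rcases mul_eq_zero.1 h3 with h4 | h4
        · exact hP h4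
        · exact (IsLocalization.map_units (MvPolynomial σ K) m₁).ne_zero h4
      · exact (IsLocalization.map_units (MvPolynomial σ K) m₂).ne_zero h3
    · rw [Ideal.mem_comap, map_mul, ← h₁]
      exact Ideal.mem_span_singleton.2 ((hπP.mul_right _).mul_right _)
    · rw [Ideal.mem_comap, map_mul, ← h₂, Ideal.mem_span_singleton] at h
      rcases hπ₀.dvd_or_dvd h with h' | h'
      · rcases hπ₀.dvd_or_dvd h' with h'' | h''
        · exact hπ₀.not_unit (hco hπP h'')
        · exact hπ₀.not_unit (isUnit_of_dvd_unit h'' (IsLocalization.map_units _ m₂))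
      · exact hπ₀.not_unit (isUnit_of_dvd_unit h' (IsLocalization.map_units _ m₁))

end base

attribute [local instance] MvPolynomial.algebraMvPolynomial in
/-- Either a fraction is split, or some horizontal prime sees it. -/
theorem split_or_exists [Finite σ] [IsAlgClosed k] {a b : MvPolynomial σ B} (ha : a ≠ 0) (hb : b ≠ 0) :
    (∃ (b₁ b₂ : B) (g₁ g₂ : MvPolynomial σ k), b₁ ≠ 0 ∧ b₂ ≠ 0 ∧ g₁ ≠ 0 ∧ g₂ ≠ 0 ∧
      a * (C b₂ * MvPolynomial.map (algebraMap k B) g₂) = b * (C b₁ * MvPolynomial.map (algebraMap k B) g₁)) ∨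
    ∃ q, IsHor k q ∧ ∃ a' b' : MvPolynomial σ B, a * b' = b * a' ∧ a' ≠ 0 ∧ b' ≠ 0 ∧
      ((a' ∈ q ∧ b' ∉ q) ∨ (a' ∉ q ∧ b' ∈ q)) := by
  classical
  let K := FractionRing B
  have ha' := (map_ne_zero_iff _ (injective (σ := σ) K)).2 ha
  have hb' := (map_ne_zero_iff _ (injective (σ := σ) K)).2 hb
  obtain ⟨P, Q, c, hco, hP, hQ⟩ := UniqueFactorizationMonoid.exists_reduced_factors'
    (algebraMap _ (MvPolynomial σ K) a) (algebraMap _ (MvPolynomial σ K) b) hb'
  have hP0 : P ≠ 0 := fun h => ha' (by rw [← hP, h, mul_zero])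
  have hQ0 : Q ≠ 0 := fun h => hb' (by rw [← hQ, h, mul_zero])
  have hab : algebraMap _ (MvPolynomial σ K) a * Q = algebraMap _ (MvPolynomial σ K) b * P := by
    rw [← hP, ← hQ]; ring
  rcases aux k K hP0 hco hab with ⟨c₁, p, hp⟩ | ⟨q, hq, a', b', he, ha'0, ha'q, hb'q⟩
  swap
  · exact Or.inr ⟨q, hq, a', b', he, ha'0, fun h => hb'q (h ▸ q.zero_mem), Or.inl ⟨ha'q, hb'q⟩⟩
  rcases aux k K hQ0 hco.symm hab.symm with ⟨c₂, r, hr⟩ | ⟨q, hq, a', b', he, ha'0, ha'q, hb'q⟩
  swap
  · exact Or.inr ⟨q, hq, b', a', he.symm, fun h => hb'q (h ▸ q.zero_mem), ha'0, Or.inr ⟨hb'q, ha'q⟩⟩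
  obtain ⟨n₁, d₁, hd₁, e₁⟩ := IsFractionRing.div_surjective B c₁
  obtain ⟨n₂, d₂, hd₂, e₂⟩ := IsFractionRing.div_surjective B c₂
  have hd₁' := (map_ne_zero_iff _ (IsFractionRing.injective B K)).2 (nonZeroDivisors.ne_zero hd₁)
  have hd₂' := (map_ne_zero_iff _ (IsFractionRing.injective B K)).2 (nonZeroDivisors.ne_zero hd₂)
  rw [div_eq_iff hd₁'] at e₁
  rw [div_eq_iff hd₂'] at e₂
  have hn₁ : n₁ ≠ 0 := fun h => by
    rw [h, map_zero] at e₁
    exact hP0 (by rw [hp, (mul_eq_zero.1 e₁.symm).resolve_right hd₁', C_0, zero_mul])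
  have hn₂ : n₂ ≠ 0 := fun h => by
    rw [h, map_zero] at e₂
    exact hQ0 (by rw [hr, (mul_eq_zero.1 e₂.symm).resolve_right hd₂', C_0, zero_mul])
  refine Or.inl ⟨n₁ * d₂, n₂ * d₁, p, r, mul_ne_zero hn₁ (nonZeroDivisors.ne_zero hd₂),
    mul_ne_zero hn₂ (nonZeroDivisors.ne_zero hd₁), fun h => hP0 (by rw [hp, h, map_zero, mul_zero]),
    fun h => hQ0 (by rw [hr, h, map_zero, mul_zero]), injective K ?_⟩
  simp only [map_mul, algebraMap_map k K]
  simp only [MvPolynomial.algebraMap_def, map_C, e₁, e₂, map_mul]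
  rw [hp, hr] at hab
  simp only [MvPolynomial.algebraMap_def] at hab
  linear_combination (C (algebraMap B K d₁) * C (algebraMap B K d₂)) * hab

end Groth.Agent.H3Cyc.ProdDiv.Alg
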