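import Groth.Agent.H3Cyc.ProdDiv.Transfer
import Mathlib

/-!
# Doubly generic divisors on a product with a rational factor
-/

set_option autoImplicit false
set_option linter.style.haveILetI false
set_option backward.isDefEq.respectTransparency.types false

universe u

open AlgebraicGeometry CategoryTheory CategoryTheory.Limits TopologicalSpace Opposite
open CategoryTheory MonoidalCategory

namespace Groth.Agent.H3Cyc.ProdDiv

attribute [local instance] MvPolynomial.algebraMvPolynomial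

theorem specIso_hom_C (σ : Type u) (R : CommRingCat.{u}) :
    (AffineSpace.SpecIso σ R).hom ≫ Spec.map (CommRingCat.ofHom (MvPolynomial.C : R →+* MvPolynomial σ R)) =
      (𝔸(σ; Spec R) ↘ Spec R) := by
  rw [← AffineSpace.SpecIso_inv_over (n := σ) R, Iso.hom_inv_id_assoc]

/-- A product of a rational variety and a variety over an algebraically closed field. -/
theorem key_prod (k : Type u) [Field k] [IsAlgClosed k] (X Y : Over (Spec (CommRingCat.of k)))
    [IsIntegral Y.left] [LocallyOfFiniteType Y.hom]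
    (U : X.left.Opens) (n : ℕ) (V : (𝔸(ULift.{u} (Fin n); Spec (CommRingCat.of k))).Opens)
    (e : (U : Scheme.{u}) ≅ (V : Scheme.{u})) (hU : (U : Set ↥X.left).Nonempty)
    (he : e.hom ≫ V.ι ≫ (𝔸(ULift.{u} (Fin n); Spec (CommRingCat.of k)) ↘ Spec (CommRingCat.of k)) = U.ι ≫ X.hom)
    (ξ : ↥(pullback X.hom Y.hom)) (hgen : ∀ z, ξ ⤳ z) :
    Key (pullback.fst X.hom Y.hom) (pullback.snd X.hom Y.hom) ξ := by
  classical
  let σ := ULift.{u} (Fin n)
  obtain ⟨U0, hU0, hmem, -⟩ := exists_isAffineOpen_mem_and_subset (X := Y.left) (x := genericPoint Y.left) (U := ⊤) trivial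
  haveI : Nonempty U0 := ⟨⟨_, hmem⟩⟩
  let φ := Spec.preimage (hU0.fromSpec ≫ Y.hom)
  letI : Algebra k Γ(Y.left, U0) := φ.hom.toAlgebra
  let B : Type u := Γ(Y.left, U0)
  let strB : Spec (CommRingCat.of B) ⟶ Spec (CommRingCat.of k) := Spec.map (CommRingCat.ofHom (algebraMap k B))
  let strA : Spec (CommRingCat.of (MvPolynomial σ k)) ⟶ Spec (CommRingCat.of k) :=
    Spec.map (CommRingCat.ofHom MvPolynomial.C)
  let u' : Spec (CommRingCat.of B) ⟶ Y.left := hU0.fromSpec
  have hB : u' ≫ Y.hom = strB := (Spec.map_preimage _).symm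
  haveI : IsDomain B := IsIntegral.component_integral U0
  haveI : Algebra.FiniteType k B := by
    have h : LocallyOfFiniteType (hU0.fromSpec ≫ Y.hom) := inferInstance
    rw [← Spec.map_preimage (hU0.fromSpec ≫ Y.hom), HasRingHomProperty.Spec_iff (P := @LocallyOfFiniteType)] at h
    exact h
  let v : (V : Scheme.{u}) ⟶ Spec (CommRingCat.of (MvPolynomial σ k)) :=
    V.ι ≫ (AffineSpace.SpecIso σ (CommRingCat.of k)).hom
  let u : (V : Scheme.{u}) ⟶ X.left := e.inv ≫ U.ι
  haveI : IsOpenImmersion v := inferInstanceAs (IsOpenImmersion (_ ≫ _))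
  haveI : IsOpenImmersion u := inferInstanceAs (IsOpenImmersion (_ ≫ _))
  haveI : IsOpenImmersion u' := hU0.isOpenImmersion_fromSpec
  have hv : v ≫ strA = V.ι ≫ (𝔸(ULift.{u} (Fin n); Spec (CommRingCat.of k)) ↘ Spec (CommRingCat.of k)) :=
    (Category.assoc _ _ _).trans (congrArg (V.ι ≫ ·) (specIso_hom_C σ (CommRingCat.of k)))
  have hu : u ≫ X.hom = v ≫ strA := by
    rw [hv, Category.assoc, ← he, Iso.inv_hom_id_assoc]
  have hZ : IsPullback (prA k B σ) (prB B σ) strA strB :=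
    isPullback_SpecMap_of_isPushout _ _ _ _
      (CommRingCat.isPushout_of_isPushout k (MvPolynomial σ k) B (MvPolynomial σ B))
  let W := pullback (v ≫ strA) strB
  let a : W ⟶ (V : Scheme.{u}) := pullback.fst (v ≫ strA) strB
  let b : W ⟶ Spec (CommRingCat.of B) := pullback.snd (v ≫ strA) strB
  let c : W ⟶ pullback X.hom Y.hom :=
    pullback.map (v ≫ strA) strB X.hom Y.hom u u' (𝟙 _) (by rw [Category.comp_id, hu])
      (by rw [Category.comp_id, hB])
  let j₀ : W ⟶ pullback strA strB :=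
    pullback.map (v ≫ strA) strB strA strB v (𝟙 _) (𝟙 _) (Category.comp_id _) (by simp)
  let j : W ⟶ Spec (CommRingCat.of (MvPolynomial σ B)) := j₀ ≫ hZ.isoPullback.inv
  haveI : IsOpenImmersion c := inferInstanceAs (IsOpenImmersion (pullback.map _ _ _ _ _ _ _ _ _))
  haveI : IsOpenImmersion j₀ := inferInstanceAs (IsOpenImmersion (pullback.map _ _ _ _ _ _ _ _ _))
  haveI : IsOpenImmersion j := inferInstanceAs (IsOpenImmersion (_ ≫ _))
  have hcp : c ≫ pullback.fst X.hom Y.hom = a ≫ u := pullback.lift_fst _ _ _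
  have hcq : c ≫ pullback.snd X.hom Y.hom = b ≫ u' := pullback.lift_snd _ _ _
  have hjp : j ≫ prA k B σ = a ≫ v := by
    show (j₀ ≫ hZ.isoPullback.inv) ≫ _ = _
    rw [Category.assoc, hZ.isoPullback_inv_fst]
    exact pullback.lift_fst _ _ _
  have hjq : j ≫ prB B σ = b ≫ 𝟙 _ := by
    show (j₀ ≫ hZ.isoPullback.inv) ≫ _ = _
    rw [Category.assoc, hZ.isoPullback_inv_snd]
    exact pullback.lift_snd _ _ _
  haveI : Nonempty W := by
    obtain ⟨x, hx⟩ := hU
    haveI : Nonempty (Spec (CommRingCat.of B)) := ⟨(⊥ : PrimeSpectrum B)⟩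
    obtain ⟨y⟩ := (inferInstance : Nonempty (Spec (CommRingCat.of B)))
    obtain ⟨w, -⟩ := Scheme.Pullback.exists_preimage_pullback (f := v ≫ strA) (g := strB) (e.hom ⟨x, hx⟩) y
      (Subsingleton.elim (α := PrimeSpectrum k) _ _)
    exact ⟨w⟩
  obtain ⟨ξW, rfl⟩ : ξ ∈ Set.range c :=
    (hgen (c (Classical.arbitrary W))).mem_open c.isOpenEmbedding.isOpen_range ⟨_, rfl⟩
  haveI : IsDomain (CommRingCat.of (MvPolynomial σ B)) := inferInstanceAs (IsDomain (MvPolynomial σ B))
  have hgW : ∀ w, ξW ⤳ w := fun w => c.isEmbedding.isInducing.specializes_iff.1 (hgen _)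
  have hjξ : j ξW = genericPoint (Spec (CommRingCat.of (MvPolynomial σ B))) := by
    obtain ⟨w₀, hw₀⟩ := (genericPoint_specializes (j ξW)).mem_open j.isOpenEmbedding.isOpen_range ⟨_, rfl⟩
    have h1 := (hgW w₀).map j.continuous
    rw [hw₀] at h1
    exact (h1.antisymm (genericPoint_specializes _)).eq
  refine key_transfer c j a b u v u' (𝟙 _) _ _ (prA k B σ) (prB B σ) hcp hjp hcq hjq hgen (fun z h1 h2 => ?_)
    (fun z h1 _ => ?_) (hjξ ▸ key_affine)
  · show z ∈ Set.range (pullback.map (v ≫ strA) strB X.hom Y.hom u u' (𝟙 _) _ _)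
    rw [Scheme.Pullback.range_map]
    refine ⟨⟨a ξW, ?_⟩, ⟨b ξW, ?_⟩⟩
    · rw [h1, ← Scheme.Hom.comp_apply, ← Scheme.Hom.comp_apply, hcp]
    · rw [h2, ← Scheme.Hom.comp_apply, ← Scheme.Hom.comp_apply, hcq]
  · have hz : hZ.isoPullback.hom z ∈ Set.range j₀ := by
      show _ ∈ Set.range (pullback.map (v ≫ strA) strB strA strB v (𝟙 _) (𝟙 _) _ _)
      rw [Scheme.Pullback.range_map]
      refine ⟨⟨a ξW, ?_⟩, ⟨_, rfl⟩⟩
      rw [← Scheme.Hom.comp_apply, ← Scheme.Hom.comp_apply, hZ.isoPullback_hom_fst, h1, ← Scheme.Hom.comp_apply, hjp]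
    obtain ⟨w, hw⟩ := hz
    refine ⟨w, ?_⟩
    show hZ.isoPullback.inv (j₀ w) = z
    rw [hw, ← Scheme.Hom.comp_apply, Iso.hom_inv_id]
    rfl

end Groth.Agent.H3Cyc.ProdDiv
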