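import Groth.Agent.H3Cyc.ProdDiv.Affine
import Groth.Agent.H3Cyc.SpFun
import Mathlib

/-!
# Transfer of the doubly generic divisor data along open immersions
-/

set_option autoImplicit false
set_option linter.style.haveILetI false
set_option backward.isDefEq.respectTransparency.types false

universe u

open AlgebraicGeometry CategoryTheory CategoryTheory.Limits TopologicalSpace

namespace Groth.Agent.H3Cyc.ProdDiv

theorem bijective_rfm {W P : Scheme.{u}} (c : W ⟶ P) [IsOpenImmersion c] (w : W) :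
    Function.Bijective (c.residueFieldMap w).hom :=
  ⟨(c.residueFieldMap w).hom.injective, SpFun.surjective_residueFieldMap c w⟩

theorem range_rfm_congr {A B : Scheme.{u}} {f g : A ⟶ B} (h : f = g) (a : A) :
    Set.range (f.residueFieldMap a).hom = Set.range (g.residueFieldMap a).hom := by subst h; rfl

theorem range_rfm_comp {A B C : Scheme.{u}} (f : A ⟶ B) (g : B ⟶ C) (a : A) :
    Set.range ((f ≫ g).residueFieldMap a).hom = (f.residueFieldMap a).hom '' Set.range (g.residueFieldMap (f a)).hom := by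
  rw [Scheme.residueFieldMap_comp, ← Set.range_comp]
  rfl

theorem range_rfm_comp_open {A B C : Scheme.{u}} (f : A ⟶ B) (g : B ⟶ C) [IsOpenImmersion g] (a : A) :
    Set.range ((f ≫ g).residueFieldMap a).hom = Set.range (f.residueFieldMap a).hom := by
  rw [range_rfm_comp, (bijective_rfm g (f a)).2.range_eq, Set.image_univ]

theorem imm_iff {W P : Scheme.{u}} (c : W ⟶ P) [IsOpenImmersion c] (ξ w : W) :
    Imm (c ξ) (c w) ↔ Imm ξ w := by
  have hi := c.isEmbedding.injective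
  constructor
  · intro h
    refine ⟨fun e => h.ne (congrArg c e), fun v h1 h2 => ?_⟩
    exact (h.min _ (h1.map c.continuous) (h2.map c.continuous)).imp (fun e => hi e) (fun e => hi e)
  · intro h
    refine ⟨fun e => h.ne (hi e), fun v h1 h2 => ?_⟩
    obtain ⟨v, rfl⟩ := h2.mem_open c.isOpenEmbedding.isOpen_range ⟨w, rfl⟩
    exact (h.min v (c.isEmbedding.isInducing.specializes_iff.1 h1) (c.isEmbedding.isInducing.specializes_iff.1 h2)).imp
      (congrArg c) (congrArg c)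

variable {W P Z X A Y Y' V V' : Scheme.{u}} (c : W ⟶ P) (j : W ⟶ Z) [IsOpenImmersion c] [IsOpenImmersion j]
  (a : W ⟶ V) (b : W ⟶ V') (u : V ⟶ X) (v : V ⟶ A) (u' : V' ⟶ Y) (v' : V' ⟶ Y')
  [IsOpenImmersion u] [IsOpenImmersion v] [IsOpenImmersion u'] [IsOpenImmersion v']
  (p : P ⟶ X) (q : P ⟶ Y) (π₁ : Z ⟶ A) (π₂ : Z ⟶ Y')

omit [IsOpenImmersion c] in
theorem eq_iff_of_open (hp : c ≫ p = a ≫ u) (ξ w : W) : p (c w) = p (c ξ) ↔ a w = a ξ := by
  rw [← Scheme.Hom.comp_apply, ← Scheme.Hom.comp_apply, hp]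
  exact ⟨fun h => u.isEmbedding.injective h, fun h => congrArg u h⟩

/-- Transfer along two open immersions. -/
theorem key_transfer (hp : c ≫ p = a ≫ u) (hπ₁ : j ≫ π₁ = a ≫ v) (hq : c ≫ q = b ≫ u') (hπ₂ : j ≫ π₂ = b ≫ v')
    {ξ : W} (hgen : ∀ z : P, c ξ ⤳ z)
    (hcov : ∀ z : P, p z = p (c ξ) → q z = q (c ξ) → z ∈ Set.range c)
    (hcov' : ∀ z : Z, π₁ z = π₁ (j ξ) → π₂ z = π₂ (j ξ) → z ∈ Set.range j)
    (hK : Key π₁ π₂ (j ξ)) : Key p q (c ξ) := by
  have hgW : ∀ w : W, ξ ⤳ w := fun w => c.isEmbedding.isInducing.specializes_iff.1 (hgen _)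
  have hdg : ∀ w : W, DG p q (c ξ) (c w) ↔ DG π₁ π₂ (j ξ) (j w) := fun w => by
    have h1 := eq_iff_of_open c a u p hp ξ w
    have h2 := eq_iff_of_open c b u' q hq ξ w
    have h3 := eq_iff_of_open j a v π₁ hπ₁ ξ w
    have h4 := eq_iff_of_open j b v' π₂ hπ₂ ξ w
    exact ⟨fun h => ⟨h3.2 (h1.1 h.fst), h4.2 (h2.1 h.snd), (imm_iff j ξ w).2 ((imm_iff c ξ w).1 h.imm)⟩,
      fun h => ⟨h1.2 (h3.1 h.fst), h2.2 (h4.1 h.snd), (imm_iff c ξ w).2 ((imm_iff j ξ w).1 h.imm)⟩⟩
  have hord : ∀ (w : W) (g : P.residueField (c ξ)) (g' : Z.residueField (j ξ)),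
      c.residueFieldMap ξ g = j.residueFieldMap ξ g' →
        Cyc.ordAt (c w) (c ξ) (hgen _) g = Cyc.ordAt (j w) (j ξ) (hK.gen _) g' := fun w g g' e => by
    rw [← Reduction.ordAt_immersion c w ξ (hgW w) g, ← Reduction.ordAt_immersion j w ξ (hgW w) g', e]
  refine ⟨hgen, fun z hz => ?_, fun g hg hzero => ?_⟩
  · obtain ⟨w, rfl⟩ := hcov z hz.fst hz.snd
    obtain ⟨g', hg', h1, h0⟩ := hK.unif _ ((hdg w).1 hz)
    obtain ⟨g, hg⟩ := (bijective_rfm c ξ).2 (j.residueFieldMap ξ g')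
    refine ⟨g, fun h => hg' ?_, (hord w g g' hg).trans h1, fun z' hz' hne => ?_⟩
    · have e : j.residueFieldMap ξ g' = 0 := by
        show _ = _
        rw [← show c.residueFieldMap ξ g = j.residueFieldMap ξ g' from hg, h, map_zero]
      exact (map_eq_zero _).1 e
    · obtain ⟨w', rfl⟩ := hcov z' hz'.fst hz'.snd
      exact (hord w' g g' hg).trans (h0 _ ((hdg w').1 hz') fun e => hne (congrArg c (j.isEmbedding.injective e)))
  · obtain ⟨g', hg'⟩ := (bijective_rfm j ξ).2 (c.residueFieldMap ξ g)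
    have hg'0 : g' ≠ 0 := fun h => hg ((map_eq_zero (c.residueFieldMap ξ).hom).1 (by rw [← hg', h, map_zero]))
    obtain ⟨a', b', ha', hb', e⟩ := hK.split g' hg'0 fun z hz => by
      obtain ⟨w, rfl⟩ := hcov' z hz.fst hz.snd
      exact (hord w g g' hg'.symm).symm.trans (hzero _ ((hdg w).2 hz))
    have r1 : Set.range ((c ≫ p).residueFieldMap ξ).hom = Set.range ((j ≫ π₁).residueFieldMap ξ).hom := by
      rw [range_rfm_congr hp, range_rfm_congr hπ₁, range_rfm_comp_open, range_rfm_comp_open]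
    have r2 : Set.range ((c ≫ q).residueFieldMap ξ).hom = Set.range ((j ≫ π₂).residueFieldMap ξ).hom := by
      rw [range_rfm_congr hq, range_rfm_congr hπ₂, range_rfm_comp_open, range_rfm_comp_open]
    rw [range_rfm_comp, range_rfm_comp] at r1 r2
    obtain ⟨_, ⟨a'', rfl⟩, ea⟩ := r1.ge ⟨_, ⟨a', rfl⟩, rfl⟩
    obtain ⟨_, ⟨b'', rfl⟩, eb⟩ := r2.ge ⟨_, ⟨b', rfl⟩, rfl⟩
    refine ⟨a'', b'', fun h => ha' ?_, fun h => hb' ?_, (bijective_rfm c ξ).1 ?_⟩
    · rw [h, map_zero, map_zero] at ea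
      exact (map_eq_zero _).1 ((map_eq_zero _).1 ea.symm)
    · rw [h, map_zero, map_zero] at eb
      exact (map_eq_zero _).1 ((map_eq_zero _).1 eb.symm)
    · rw [map_mul]
      refine Eq.trans ?_ (congrArg₂ (· * ·) ea eb).symm
      rw [← map_mul, ← hg']
      exact congrArg (j.residueFieldMap ξ).hom e

end Groth.Agent.H3Cyc.ProdDiv
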